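import Cfsg.Prelude.Def_Local
import Cfsg.Agent.Balance2.Layer
import Cfsg.Agent.LocalB.CharP
import Cfsg.Agent.Comp.Layer

/-!
The normal closure of a standard subgroup whose centralizer has cyclic Sylow `2`-subgroups and into
which some involution of that centralizer carries a `2`-group of the closure.
-/

set_option autoImplicit false
set_option linter.unusedSectionVars false
set_option linter.style.haveILetI false

namespace CfsgLib.StdClosure

open Subgroup

universe u

variable {G : Type u} [Group G] [Finite G]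

theorem sq_inj {x y : G} (hx : Odd (orderOf x)) (hy : Odd (orderOf y)) (h : x * x = y * y) :
    x = y := by
  set n := orderOf x * orderOf y with hn
  obtain ⟨k, hk⟩ : Odd n := hx.mul hy
  have hx' : x ^ n = 1 := by rw [hn, pow_mul, pow_orderOf_eq_one, one_pow]
  have hy' : y ^ n = 1 := by rw [hn, mul_comm, pow_mul, pow_orderOf_eq_one, one_pow]
  calc x = x ^ (2 * k + 2) := by rw [pow_succ, ← hk, hx', one_mul]
    _ = (x * x) ^ (k + 1) := by rw [← pow_two, ← pow_mul, mul_add]
    _ = (y * y) ^ (k + 1) := by rw [h]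
    _ = y ^ (2 * k + 2) := by rw [← pow_two, ← pow_mul, mul_add]
    _ = y := by rw [pow_succ, ← hk, hy', one_mul]

theorem exists_sqrt {x : G} (hx : Odd (orderOf x)) : ∃ h ∈ zpowers x, h * h = x := by
  obtain ⟨k, hk⟩ := hx
  refine ⟨x ^ (k + 1), npow_mem_zpowers x (k + 1), ?_⟩
  rw [← pow_add, show k + 1 + (k + 1) = orderOf x + 1 by omega, pow_succ, pow_orderOf_eq_one,
    one_mul]

theorem odd_of_mem {O : Subgroup G} (hodd : Odd (Nat.card O)) {x : G} (hx : x ∈ O) :
    Odd (orderOf x) := hodd.of_dvd_nat (Subgroup.orderOf_dvd_natCard O hx)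

/-- A four-group `⟨a, t⟩` acting on a group of odd order: if `a` fixes what is fixed by `t` and what
is fixed by `a t`, it fixes everything. -/
theorem four_fixed {O : Subgroup G} [O.Normal] (hodd : Odd (Nat.card O)) {a t : G}
    (ha : a * a = 1) (ht : t * t = 1) (hat : a * t = t * a)
    (h1 : ∀ x ∈ O, t * x = x * t → a * x = x * a)
    (h2 : ∀ x ∈ O, (a * t) * x = x * (a * t) → a * x = x * a) :
    ∀ x ∈ O, a * x = x * a := by
  have hn : ∀ {c x : G}, x ∈ O → c * c = 1 → c * x * c ∈ O := by
    intro c x hx hc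
    have := (inferInstance : O.Normal).conj_mem x hx c
    rwa [inv_eq_of_mul_eq_one_right hc] at this
  have hai : a⁻¹ = a := inv_eq_of_mul_eq_one_right ha
  have hti : t⁻¹ = t := inv_eq_of_mul_eq_one_right ht
  suffices key : ∀ w ∈ O, a * w * a = w⁻¹ → w = 1 by
    intro x hx
    have h := key (x * (a * x⁻¹ * a)) (mul_mem hx (hn (inv_mem hx) ha)) ?_
    · calc a * x = (x * (a * x⁻¹ * a)) * (a * x) := by rw [h, one_mul]
        _ = x * a * (x⁻¹ * (a * a) * x) := by group
        _ = x * a := by rw [ha]; group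
    · calc a * (x * (a * x⁻¹ * a)) * a = a * x * a * x⁻¹ * (a * a) := by group
        _ = a⁻¹ * x * a⁻¹ * x⁻¹ := by rw [ha, hai, mul_one]
        _ = (x * (a * x⁻¹ * a))⁻¹ := by group
  intro w hw hwa
  have hwo := odd_of_mem hodd hw
  obtain ⟨h, hhz, hh⟩ := exists_sqrt hwo
  have hhO : h ∈ O := (zpowers_le.2 hw) hhz
  set u := t * w * t with hu
  have huO : u ∈ O := hn hw ht
  have hua : a * u * a = u⁻¹ := by
    calc a * (t * w * t) * a = (a * t) * w * (t * a) := by group
      _ = (t * a) * w * (a * t) := by rw [hat]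
      _ = t * (a * w * a) * t := by group
      _ = t⁻¹ * w⁻¹ * t⁻¹ := by rw [hwa, hti]
      _ = (t * w * t)⁻¹ := by group
  have hha : a * h * a = h⁻¹ := by
    refine sq_inj (odd_of_mem hodd (hn hhO ha)) (odd_of_mem hodd (inv_mem hhO)) ?_
    calc a * h * a * (a * h * a) = a * (h * (a * a) * h) * a := by group
      _ = w⁻¹ := by rw [ha, mul_one, hh, hwa]
      _ = h⁻¹ * h⁻¹ := by rw [← hh, mul_inv_rev]
  obtain ⟨s, hsz, hs⟩ := exists_sqrt (x := h⁻¹ * u * h⁻¹)
    (odd_of_mem hodd (mul_mem (mul_mem (inv_mem hhO) huO) (inv_mem hhO)))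
  have hsO : s ∈ O :=
    (zpowers_le.2 (mul_mem (mul_mem (inv_mem hhO) huO) (inv_mem hhO))) hsz
  have hha' : a * h⁻¹ * a = h := by
    calc a * h⁻¹ * a = (a⁻¹ * h * a⁻¹)⁻¹ := by group
      _ = h := by rw [hai, hha, inv_inv]
  have hsa : a * s * a = s⁻¹ := by
    refine sq_inj (odd_of_mem hodd (hn hsO ha)) (odd_of_mem hodd (inv_mem hsO)) ?_
    calc a * s * a * (a * s * a) = a * (s * (a * a) * s) * a := by group
      _ = a * (h⁻¹ * (a * a) * u * (a * a) * h⁻¹) * a := by rw [ha, mul_one, hs, mul_one, mul_one]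
      _ = (a * h⁻¹ * a) * (a * u * a) * (a * h⁻¹ * a) := by group
      _ = h * u⁻¹ * h := by rw [hha', hua]
      _ = s⁻¹ * s⁻¹ := by rw [← mul_inv_rev, hs]; group
  set m := h * s * h with hm
  have hmO : m ∈ O := mul_mem (mul_mem hhO hsO) hhO
  have hmu : m * w⁻¹ * m = u := by
    calc m * w⁻¹ * m = h * (s * s) * h := by rw [hm, ← hh]; group
      _ = u := by rw [hs]; group
  have hmu' : m * u⁻¹ * m = w := by rw [← hmu]; group
  have hmt : t * m * t = m := by
    have hb : (t * m * t) * w⁻¹ * (t * m * t) = u := by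
      calc (t * m * t) * w⁻¹ * (t * m * t) = t * (m * (t⁻¹ * w * t⁻¹)⁻¹ * m) * t := by group
        _ = t * w * t := by rw [hti, ← hu, hmu']
        _ = u := hu.symm
    have hc : h⁻¹ * (t * m * t) * h⁻¹ = h⁻¹ * m * h⁻¹ := by
      refine sq_inj (odd_of_mem hodd (mul_mem (mul_mem (inv_mem hhO) (hn hmO ht)) (inv_mem hhO)))
        (odd_of_mem hodd (mul_mem (mul_mem (inv_mem hhO) hmO) (inv_mem hhO))) ?_
      calc h⁻¹ * (t * m * t) * h⁻¹ * (h⁻¹ * (t * m * t) * h⁻¹)
          = h⁻¹ * ((t * m * t) * (h * h)⁻¹ * (t * m * t)) * h⁻¹ := by group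
        _ = h⁻¹ * (m * w⁻¹ * m) * h⁻¹ := by rw [hh, hb, hmu]
        _ = h⁻¹ * m * h⁻¹ * (h⁻¹ * m * h⁻¹) := by rw [← hh]; group
    exact mul_left_cancel (mul_right_cancel hc)
  have hma : a * m * a = m⁻¹ := by
    calc a * m * a = a * (h * (a * a) * s * (a * a) * h) * a := by rw [hm, ha, mul_one, mul_one]
      _ = (a * h * a) * (a * s * a) * (a * h * a) := by group
      _ = m⁻¹ := by rw [hha, hsa, hm]; group
  have hmc : a * m = m * a := by
    refine h1 m hmO ?_
    calc t * m = t * m * (t * t) := by rw [ht, mul_one]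
      _ = t * m * t * t := by group
      _ = m * t := by rw [hmt]
  have hm1 : m = 1 := by
    refine sq_inj (odd_of_mem hodd hmO) (odd_of_mem hodd (one_mem O)) ?_
    have : m = m⁻¹ := by
      rw [← hma, hmc, mul_assoc, ha, mul_one]
    rw [one_mul]
    calc m * m = m * m⁻¹ := by rw [← this]
      _ = 1 := mul_inv_cancel m
  have hwc : a * w = w * a := by
    refine h2 w hw ?_
    rw [hm1, one_mul, mul_one] at hmu
    calc (a * t) * w = a * (t * w * t) * t := by
          rw [mul_assoc a (t * w * t) t, mul_assoc (t * w) t t, ht, mul_one, mul_assoc]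
      _ = a * (a * w * a) * t := by rw [← hu, ← hmu, hwa]
      _ = (a * a) * w * (a * t) := by group
      _ = w * (a * t) := by rw [ha, one_mul]
  have hw2 : w = w⁻¹ := by rw [← hwa, hwc, mul_assoc, ha, mul_one]
  refine sq_inj hwo (by simp) ?_
  rw [one_mul]
  calc w * w = w * w⁻¹ := by rw [← hw2]
    _ = 1 := mul_inv_cancel w

/-- Elements of a normal subgroup meeting a quasisimple subgroup centrally that normalize it
centralize it. -/
theorem le_centralizer_of_normalizes {A N : Subgroup G} [N.Normal] (hA : ⁅A, A⁆ = A)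
    (hAN : ∀ x ∈ A, x ∈ N → ∀ y ∈ A, x * y = y * x) :
    A ≤ centralizer ((N ⊓ normalizer (A : Set G) : Subgroup G) : Set G) := by
  refine Balance2.le_centralizer_of_central hA fun x hx k hk => ?_
  obtain ⟨hkN, hkA⟩ := mem_inf.1 hk
  have h1 : x * k * x⁻¹ * k⁻¹ ∈ A := by
    rw [show x * k * x⁻¹ * k⁻¹ = x * (k * x⁻¹ * k⁻¹) by group]
    exact mul_mem hx ((mem_normalizer_iff.1 hkA _).1 (inv_mem hx))
  have h2 : x * k * x⁻¹ * k⁻¹ ∈ N :=
    mul_mem ((inferInstance : N.Normal).conj_mem k hkN x) (inv_mem hkN)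
  exact mem_centralizer_iff.2 fun y hy => (hAN _ h1 h2 y hy).symm

/-- A normal subgroup not containing a quasisimple subgroup meets it in central elements. -/
theorem central_of_not_le {A N : Subgroup G} [N.Normal] (hA : Cfsg.IsQuasisimple A)
    (hle : ¬ A ≤ N) {x : G} (hx : x ∈ A) (hxN : x ∈ N) {y : G} (hy : y ∈ A) : x * y = y * x := by
  rcases Comp.quasisimple_normal hA (inferInstance : (N.subgroupOf A).Normal) with h | h
  · exact absurd (subgroupOf_eq_top.1 h) hle
  · exact (congrArg Subtype.val (mem_center_iff.1 (h (show (⟨x, hx⟩ : A) ∈ N.subgroupOf A from hxN))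
      ⟨y, hy⟩)).symm

theorem not_le_solvable {A N : Subgroup G} (hA : Cfsg.IsQuasisimple A) (hN : Group.IsSolvable N) :
    ¬ A ≤ N := fun hle => by
  haveI := hN
  exact Comp.quasisimple_not_solvable hA
    (Group.isSolvable_of_isSolvable_injective (f := inclusion hle) (inclusion_injective hle))

theorem eq_of_cyclic_sylow {C : Subgroup G} (hcyc : ∀ R : Sylow 2 ↥C, IsCyclic ↥(R : Subgroup ↥C))
    {x y : G} (hx : x ∈ C) (hy : y ∈ C) (hx2 : x * x = 1) (hy2 : y * y = 1) (hx1 : x ≠ 1)
    (hy1 : y ≠ 1) (hxy : x * y = y * x) : x = y := by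
  classical
  set x' : C := ⟨x, hx⟩
  set y' : C := ⟨y, hy⟩
  have hc : ∀ a ∈ ({x', y'} : Set C), ∀ b ∈ ({x', y'} : Set C), a * b = b * a := by
    intro a ha b hb
    rcases ha with rfl | rfl <;> rcases hb with rfl | rfl
    · rfl
    · exact Subtype.ext hxy
    · exact Subtype.ext hxy.symm
    · rfl
  set V := Subgroup.closure ({x', y'} : Set C) with hV
  haveI : IsMulCommutative V := Subgroup.isMulCommutative_closure hc
  have hsq : ∀ v ∈ V, v * v = 1 := by
    intro v hv
    induction hv using Subgroup.closure_induction with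
    | mem z hz =>
      rcases hz with rfl | rfl
      · exact Subtype.ext hx2
      · exact Subtype.ext hy2
    | one => rw [one_mul]
    | mul a b ha hb iha ihb =>
      have hab : a * b = b * a :=
        congrArg Subtype.val (IsMulCommutative.is_comm.comm (⟨a, ha⟩ : V) ⟨b, hb⟩)
      calc a * b * (a * b) = a * b * (b * a) := by rw [← hab]
        _ = a * (b * b) * a := by group
        _ = 1 := by rw [ihb, mul_one, iha]
    | inv a _ iha => rw [← mul_inv_rev, iha, inv_one]
  have hp : IsPGroup 2 V := fun v => ⟨1, Subtype.ext (by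
    rw [pow_one, pow_two]; exact hsq v v.2)⟩
  obtain ⟨R, hR⟩ := hp.exists_le_sylow
  haveI := hcyc R
  haveI := Fintype.ofFinite ↥(R : Subgroup C)
  obtain ⟨g, hg⟩ := IsCyclic.exists_generator (α := ↥(R : Subgroup C))
  have hxR : x' ∈ (R : Subgroup C) := hR (subset_closure (Or.inl rfl))
  have hyR : y' ∈ (R : Subgroup C) := hR (subset_closure (Or.inr rfl))
  have h2 := IsCyclic.card_pow_eq_one_le (α := ↥(R : Subgroup C)) (n := 2) (by norm_num)
  by_contra hne
  have hsub : ({1, ⟨x', hxR⟩, ⟨y', hyR⟩} : Finset ↥(R : Subgroup C)) ⊆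
      Finset.univ.filter fun a => a ^ 2 = 1 := by
    intro a ha
    simp only [Finset.mem_insert, Finset.mem_singleton] at ha
    simp only [Finset.mem_filter, Finset.mem_univ, true_and]
    rcases ha with rfl | rfl | rfl
    · exact one_pow 2
    · exact Subtype.ext (Subtype.ext (by simpa [pow_two] using hx2))
    · exact Subtype.ext (Subtype.ext (by simpa [pow_two] using hy2))
  have h3 := (Finset.card_le_card hsub).trans h2
  have h4 : ({1, ⟨x', hxR⟩, ⟨y', hyR⟩} : Finset ↥(R : Subgroup C)).card = 3 := by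
    refine Finset.card_eq_three.2 ⟨_, _, _, ?_, ?_, ?_, rfl⟩ <;> intro h <;>
      have := congrArg (fun z : ↥(R : Subgroup C) => ((z : C) : G)) h <;>
      simp [x', y'] at this <;> grind
  omega

variable {A : Subgroup G} {t : G}

theorem centralizer_le_normalizer (hA : Cfsg.IsStandardSubgroup A) (ht : orderOf t = 2)
    (htA : t ∈ centralizer (A : Set G)) :
    centralizer ({t} : Set G) ≤ normalizer (A : Set G) := by
  intro g hg
  rw [hA.2.2.2]
  by_contra hgn
  have hodd := hA.2.1.2 g hgn
  have hmem : t ∈ centralizer (A : Set G) ⊓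
      (centralizer (A : Set G)).map (MulAut.conj g).toMonoidHom := by
    refine mem_inf.2 ⟨htA, mem_map.2 ⟨t, htA, ?_⟩⟩
    show g * t * g⁻¹ = t
    rw [mem_centralizer_singleton_iff.1 hg, mul_inv_cancel_right]
  have h2 := Subgroup.orderOf_dvd_natCard _ hmem
  rw [ht] at h2
  exact Nat.not_even_iff_odd.2 hodd (even_iff_two_dvd.2 h2)

theorem normal_closure_layer (hA : Cfsg.IsQuasisimple A) (hle : A ≤ Cfsg.layer G) :
    Cfsg.layer ↥(normalClosure (A : Set G)) = ⊤ := by
  set X := normalClosure (A : Set G) with hX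
  have hXE : X ≤ Cfsg.layer G := normalClosure_le_normal hle
  have hXp : ⁅X, X⁆ = X := by
    refine le_antisymm (commutator_le_self X) ?_
    haveI : (⁅X, X⁆).Normal := commutator_normal X X
    refine normalClosure_le_normal ?_
    have h : A ≤ X := fun x hx => subset_normalClosure hx
    rw [← Subgroup.isPerfect_iff.mp hA.1]
    exact commutator_mono h h
  have hY : X ≤ (Cfsg.layer ↥X).map X.subtype := by
    set Y := (Cfsg.layer ↥X).map X.subtype with hYd
    have hYn : Y ≤ X := map_subtype_le _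
    haveI hYnor : Y.Normal := ⟨fun n hn g => by
      obtain ⟨k, hk, rfl⟩ := mem_map.1 hn
      have hc : X.map (MulAut.conj g).toMonoidHom = X := Normal.map_conj_eq X g
      refine mem_map.2 ⟨⟨g * k * g⁻¹, (inferInstance : X.Normal).conj_mem k k.2 g⟩, ?_, rfl⟩
      have := Comp.map_layer_le (MulAut.conjNormal (H := X) g) (mem_map_of_mem _ hk)
      exact (show (⟨g * k * g⁻¹, (inferInstance : X.Normal).conj_mem k k.2 g⟩ : X) =
        MulAut.conjNormal g k from Subtype.ext (MulAut.conjNormal_apply g k).symm) ▸ this⟩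
    have hcen : X ≤ centralizer (X : Set G) ⊔ Y → X ≤ Y := by
      intro h
      rw [← hXp, commutator_le]
      intro a ha b hb
      have hmem : ∀ c ∈ centralizer (X : Set G) ⊔ Y, ∀ d ∈ X,
          c * d * c⁻¹ * d⁻¹ ∈ Y := by
        intro c hc d hd
        obtain ⟨p, hp, q, hq, rfl⟩ := mem_sup_of_normal_right.1 hc
        have hpd : p * d = d * p := (mem_centralizer_iff.1 hp d hd).symm
        have e : p * q * d * (p * q)⁻¹ * d⁻¹ = p * (q * (d * q⁻¹ * d⁻¹)) * p⁻¹ *
            ((p * d) * p⁻¹ * d⁻¹) := by group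
        rw [e, hpd, show d * p * p⁻¹ * d⁻¹ = 1 by group, mul_one]
        exact hYnor.conj_mem _ (mul_mem hq (hYnor.conj_mem _ (inv_mem hq) d)) p
      exact hmem a (h ha) b hb
    refine hcen (hXE.trans (Comp.layer_le fun L hL => ?_))
    rcases Comp.component_le_or_commutator_eq_bot hL
      (inferInstance : X.Normal).isSubnormal with h | h
    · refine le_sup_of_le_right ?_
      rw [← map_subgroupOf_eq_of_le h]
      exact map_mono (Comp.component_le_layer (Comp.component_subgroupOf hL h))
    · exact le_sup_of_le_left (commutator_eq_bot_iff_le_centralizer.1 h)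
  rw [eq_top_iff]
  intro x _
  obtain ⟨y, hy, hye⟩ := mem_map.1 (hY x.2)
  exact (Subtype.ext hye : y = x) ▸ hy

theorem main (hA : Cfsg.IsStandardSubgroup A)
    (hcyc : ∀ R : Sylow 2 ↥(centralizer (A : Set G)),
      IsCyclic ↥(R : Subgroup ↥(centralizer (A : Set G))))
    (ht : orderOf t = 2) (htA : t ∈ centralizer (A : Set G)) {R : Subgroup G}
    (_hR2 : IsPGroup 2 ↥R) (hRX : R ≤ normalClosure (A : Set G)) (hRt : ∀ r ∈ R, t * r * t⁻¹ ∈ R)
    (hc1 : ⁅R, zpowers t⁆ ≠ ⊥) (hc2 : ⁅R, zpowers t⁆ ≤ A) :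
    Cfsg.layer ↥(normalClosure (A : Set G)) = ⊤ ∧
      Odd (Nat.card ↥(center ↥(normalClosure (A : Set G)))) := by
  haveI : Fact (Nat.Prime 2) := ⟨Nat.prime_two⟩
  have htt : t * t = 1 := by rw [← pow_two, ← ht, pow_orderOf_eq_one]
  have ht1 : t ≠ 1 := fun h => by rw [h, orderOf_one] at ht; omega
  obtain ⟨r, hr, hrt⟩ : ∃ r ∈ R, r * t ≠ t * r := by
    by_contra hno
    push Not at hno
    refine hc1 (commutator_eq_bot_iff_le_centralizer.2 fun r hr => mem_centralizer_iff.2 ?_)
    intro z hz
    obtain ⟨n, rfl⟩ := mem_zpowers_iff.1 hz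
    exact ((show Commute r t from hno r hr).zpow_right n).symm
  set D := ⁅R, zpowers t⁆ with hD
  set a := r * t * r⁻¹ * t⁻¹ with hadef
  have haD : a ∈ D := commutator_mem_commutator hr (mem_zpowers t)
  have haA : a ∈ A := hc2 haD
  have haR : a ∈ R := by
    rw [hadef, show r * t * r⁻¹ * t⁻¹ = r * (t * r⁻¹ * t⁻¹) by group]
    exact mul_mem hr (hRt _ (inv_mem hr))
  have hta : t * a = a * t := (mem_centralizer_iff.1 htA a haA).symm
  have haconj : a * t = r * t * r⁻¹ := by rw [hadef]; group
  have haa : a * a = 1 := by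
    calc a * a = a * a * (t * t) := by rw [htt, mul_one]
      _ = a * (a * t) * t := by group
      _ = a * (t * a) * t := by rw [hta]
      _ = (r * t * r⁻¹) * (r * t * r⁻¹) := by rw [← haconj]; group
      _ = r * (t * t) * r⁻¹ := by group
      _ = 1 := by rw [htt]; group
  have ha1 : a ≠ 1 := by
    intro h
    rw [h, one_mul] at haconj
    exact hrt (eq_mul_inv_iff_mul_eq.1 haconj).symm
  have haZ : ¬ ∀ y ∈ A, a * y = y * a := by
    intro h
    have haC : a ∈ centralizer (A : Set G) := mem_centralizer_iff.2 fun y hy => (h y hy).symm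
    have he := eq_of_cyclic_sylow hcyc haC htA haa htt ha1 ht1 hta.symm
    rw [he, htt] at haconj
    exact ht1 (conj_eq_one_iff.1 haconj.symm)
  have hrA : ∃ a' ∈ A, a = r * a' * r⁻¹ := by
    refine ⟨r⁻¹ * a * r, hc2 ?_, by group⟩
    have hn : R ≤ normalizer (D : Set G) := normalizer_commutator_ge_left _ _
    exact (mem_normalizer_iff''.1 (hn hr) a).1 haD
  have hAq := hA.1
  have hAp : ⁅A, A⁆ = A := Subgroup.isPerfect_iff.mp hAq.1
  have hCN := centralizer_le_normalizer hA ht htA
  have hAC : A ≤ centralizer ({t} : Set G) := fun x hx =>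
    mem_centralizer_singleton_iff.2 (mem_centralizer_iff.1 htA x hx)
  -- elements of a normal subgroup fixed by `t` are centralized by `A`
  have hfix : ∀ (N : Subgroup G) [N.Normal], ¬ A ≤ N → ∀ x ∈ N, t * x = x * t →
      ∀ y ∈ A, y * x = x * y := by
    intro N _ hN x hx hxt y hy
    have h := le_centralizer_of_normalizes (N := N) hAp
      (fun _ h1 h2 _ h3 => central_of_not_le hAq hN h1 h2 h3) hy
    exact (mem_centralizer_iff.1 h x
      (mem_inf.2 ⟨hx, hCN (mem_centralizer_singleton_iff.2 hxt.symm)⟩)).symm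
  -- `A` centralizes the core
  set O := Cfsg.pPrimeCore 2 G with hOdef
  have hOodd : Odd (Nat.card O) :=
    Nat.coprime_two_right.1 (Solvable.coprime_card_pPrimeCore (G := G) 2)
  have hAO' : ¬ A ≤ O := by
    intro h
    exact Nat.not_even_iff_odd.2 (odd_of_mem hOodd (h haA))
      (by rw [orderOf_eq_prime (p := 2) (by rw [pow_two]; exact haa) ha1]; exact even_two)
  have haO : ∀ x ∈ O, a * x = x * a := by
    refine four_fixed hOodd haa htt hta.symm (fun x hx hxt => hfix O hAO' x hx hxt a haA) ?_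
    intro x hx hxb
    obtain ⟨a', ha', hae⟩ := hrA
    have h := hfix O hAO' (r⁻¹ * x * r) (by
      simpa using (inferInstance : O.Normal).conj_mem x hx r⁻¹) (by
      rw [haconj] at hxb
      calc t * (r⁻¹ * x * r) = r⁻¹ * ((r * t * r⁻¹) * x) * r := by group
        _ = r⁻¹ * (x * (r * t * r⁻¹)) * r := by rw [hxb]
        _ = r⁻¹ * x * r * t := by group) a' ha'
    calc a * x = r * (a' * (r⁻¹ * x * r)) * r⁻¹ := by rw [hae]; group
      _ = r * ((r⁻¹ * x * r) * a') * r⁻¹ := by rw [h]
      _ = x * a := by rw [hae]; group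
  have hAO : A ≤ centralizer (O : Set G) := by
    by_contra hno
    exact haZ fun y hy => central_of_not_le hAq (N := centralizer (O : Set G)) hno haA
      (mem_centralizer_iff.2 fun x hx => (haO x hx).symm) hy
  -- `A` centralizes `O₂(G)`
  have hPnot : ¬ A ≤ Cfsg.pCore 2 G := not_le_solvable hAq
    (haveI := (Solvable.isPGroup_pCore (G := G) 2).isNilpotent; inferInstance)
  have hT : IsPGroup 2 ↥(zpowers t) :=
    IsPGroup.of_card (n := 1) (by rw [Nat.card_zpowers, ht, pow_one])
  have hA2 : A ≤ centralizer (Cfsg.pCore 2 G : Set G) := by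
    refine LBalance.le_of_coprime_elements (p := 2) hAp fun x hx hxo => ?_
    refine mem_centralizer_iff.2 fun q hq => ((LocalB.commute_of_pxq hT
      (Solvable.isPGroup_pCore 2) le_normalizer_of_normal hxo
      (le_normalizer_of_normal (mem_top x)) ?_ ?_) q hq).eq.symm
    · intro π hπ
      obtain ⟨n, rfl⟩ := mem_zpowers_iff.1 hπ
      exact (show Commute t x from (mem_centralizer_iff.1 htA x hx).symm).zpow_left n
    · intro z hz hzt
      exact hfix _ hPnot z hz (hzt t (mem_zpowers t)) x hx
  -- `A` centralizes `F(G)`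
  have hAF : A ≤ centralizer (Cfsg.fittingSubgroup G : Set G) := by
    rw [le_centralizer_iff, Comp.fitting_eq_iSup_pCore]
    refine iSup_le fun q => ?_
    rw [← le_centralizer_iff]
    haveI : Fact (q : ℕ).Prime := ⟨Nat.prime_of_mem_primeFactors q.2⟩
    rcases eq_or_ne (q : ℕ) 2 with h | h
    · rw [h]; exact hA2
    · refine hAO.trans (centralizer_le ?_)
      refine Solvable.le_pPrimeCore 2 inferInstance ?_
      obtain ⟨n, hn⟩ := IsPGroup.iff_card.1 (Solvable.isPGroup_pCore (G := G) (q : ℕ))
      rw [hn]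
      exact Nat.Coprime.pow_left _ ((Nat.coprime_primes (Fact.out : (q : ℕ).Prime) Nat.prime_two).2 h)
  -- `A` is generated by `2`-elements
  have hA2g : A ≤ PComp.pGen 2 A := by
    set P := PComp.pGen 2 A with hP
    have hn : A ≤ normalizer (P : Set G) := by
      intro y hy
      have key : ∀ y ∈ A, ∀ z ∈ P, y * z * y⁻¹ ∈ P := by
        intro y hy z hz
        have hle : P ≤ P.comap (MulAut.conj y).toMonoidHom := by
          refine (closure_le _).2 ?_
          rintro w ⟨hw, k, hk⟩
          refine subset_closure ⟨mul_mem (mul_mem hy hw) (inv_mem hy), k, ?_⟩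
          show (y * w * y⁻¹) ^ 2 ^ k = 1
          rw [conj_pow, hk, mul_one, mul_inv_cancel]
        exact hle hz
      refine mem_normalizer_iff.2 fun z => ⟨key y hy z, fun h => ?_⟩
      simpa [mul_assoc] using key y⁻¹ (inv_mem hy) _ h
    haveI : (P.subgroupOf A).Normal := (normal_subgroupOf_iff_le_normalizer (PComp.pGen_le 2 A)).2 hn
    rcases Comp.quasisimple_normal hAq (inferInstance : (P.subgroupOf A).Normal) with h | h
    · exact subgroupOf_eq_top.1 h
    · exact absurd (fun y hy => (congrArg Subtype.val (mem_center_iff.1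
        (h (show (⟨a, haA⟩ : A) ∈ P.subgroupOf A from
          subset_closure ⟨haA, 1, by rw [pow_one, pow_two]; exact haa⟩)) ⟨y, hy⟩)).symm) haZ
  -- `A` lies in the layer
  have hAE : A ≤ Cfsg.layer G := by
    by_contra hno
    have hm := Balance2.balance (K := Cfsg.layer G) hT
      (le_centralizer_iff.1 (zpowers_le.2 htA)) hAp hA2g
      (fun x hx => ⟨?_, fun d hd => ?_⟩)
    · have hE : A ≤ centralizer (Cfsg.layer G : Set G) := by
        refine Balance2.le_centralizer_of_central hAp fun x hx k hk => ?_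
        have hcore : LocalBalance.core 2 (Cfsg.layer G) ≤ O :=
          Solvable.le_pPrimeCore 2 (normalizer_eq_top_iff.1 (top_le_iff.1
            ((normalizer_eq_top_iff.2 (inferInstance : (Cfsg.layer G).Normal)).ge.trans
              (LocalBalance.normalizer_le_normalizer_core _)))) (LocalBalance.coprime_core _)
        exact (le_centralizer_iff.1 hAO) (hcore ((hm hx).2 k hk))
      have hstar : A ≤ centralizer (Cfsg.generalizedFittingSubgroup G : Set G) := by
        rw [le_centralizer_iff, Cfsg.generalizedFittingSubgroup]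
        exact sup_le (le_centralizer_iff.1 hE) (le_centralizer_iff.1 hAF)
      have habel : ⁅A, A⁆ = ⊥ := commutator_eq_bot_iff_le_centralizer.2
        (hstar.trans (centralizer_le (hstar.trans Comp.centralizer_Fstar_le)))
      rw [hAp] at habel
      exact not_le_solvable hAq (N := (⊥ : Subgroup G)) inferInstance habel.le
    · exact inf_normalizer_le_normalizer_inf ⟨le_normalizer_of_normal (mem_top x),
        le_normalizer ((le_centralizer_iff.1 (zpowers_le.2 htA)) hx)⟩
    · have hd' := mem_inf.1 hd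
      have h := hfix _ hno d hd'.1
        (mem_centralizer_iff.1 hd'.2 t (mem_zpowers t)) x hx
      rw [h, mul_inv_cancel_right, mul_inv_cancel]
      exact one_mem _
  refine ⟨normal_closure_layer hAq hAE, ?_⟩
  -- the centre has odd order
  set X := normalClosure (A : Set G) with hXdef
  rw [← Nat.not_even_iff_odd, even_iff_two_dvd]
  intro h2
  set Z := (center ↥X).map X.subtype with hZ
  obtain ⟨w, hw⟩ := exists_prime_orderOf_dvd_card' (G := ↥(center ↥X)) 2 h2
  set w' : G := ((w : ↥X) : G) with hw'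
  have hw1 : w' ≠ 1 := by
    intro h
    have : w = 1 := Subtype.ext (Subtype.ext h)
    rw [this, orderOf_one] at hw
    omega
  have hww : w' * w' = 1 := by
    have : w ^ 2 = 1 := by rw [← hw]; exact pow_orderOf_eq_one w
    rw [pow_two] at this
    exact congrArg (fun z : ↥(center ↥X) => ((z : ↥X) : G)) this
  have hXn : X.Normal := inferInstance
  have hcomm : ∀ x ∈ X, w' * x = x * w' := fun x hx =>
    (congrArg Subtype.val (mem_center_iff.1 w.2 ⟨x, hx⟩)).symm
  have htinv : t⁻¹ = t := inv_eq_of_mul_eq_one_right htt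
  have hwt : ∀ x ∈ X, (t * w' * t) * x = x * (t * w' * t) := by
    intro x hx
    have hy : t * x * t ∈ X := by
      have := hXn.conj_mem x hx t
      rwa [htinv] at this
    calc t * w' * t * x = t * (w' * (t * x * t)) * t := by
          simp only [mul_assoc, htt, mul_one]
      _ = t * ((t * x * t) * w') * t := by rw [hcomm _ hy]
      _ = (t * t) * x * (t * w' * t) := by group
      _ = x * (t * w' * t) := by rw [htt, one_mul]
  have htwX : t * w' * t ∈ X := by
    have := hXn.conj_mem w' (w : ↥X).2 t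
    rwa [htinv] at this
  obtain ⟨z, hzX, hzc, hzz, hz1, hzt⟩ : ∃ z ∈ X, (∀ x ∈ X, z * x = x * z) ∧ z * z = 1 ∧ z ≠ 1 ∧
      z * t = t * z := by
    have hww' : t * w' * t * (t * w' * t) = 1 := by
      calc t * w' * t * (t * w' * t) = t * w' * (t * t) * w' * t := by group
        _ = t * (w' * w') * t := by rw [htt]; group
        _ = 1 := by rw [hww, mul_one, htt]
    have hc := hcomm _ htwX
    by_cases hv : w' * (t * w' * t) = 1
    · refine ⟨w', (w : ↥X).2, hcomm, hww, hw1, ?_⟩
      have : t * w' * t = w' := by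
        rw [← inv_eq_of_mul_eq_one_right hv, inv_eq_of_mul_eq_one_right hww]
      calc w' * t = t * w' * t * t := by rw [this]
        _ = t * w' := by rw [mul_assoc, htt, mul_one]
    · refine ⟨w' * (t * w' * t), mul_mem (w : ↥X).2 htwX, fun x hx => ?_, ?_, hv, ?_⟩
      · rw [mul_assoc, hwt x hx, ← mul_assoc, hcomm x hx, mul_assoc]
      · calc w' * (t * w' * t) * (w' * (t * w' * t))
            = w' * ((t * w' * t) * w') * (t * w' * t) := by group
          _ = w' * (w' * (t * w' * t)) * (t * w' * t) := by rw [← hc]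
          _ = (w' * w') * ((t * w' * t) * (t * w' * t)) := by group
          _ = 1 := by rw [hww, hww', one_mul]
      · calc w' * (t * w' * t) * t = w' * (t * w') * (t * t) := by group
          _ = (w' * (t * w' * t)) * t := by rw [htt, mul_one, mul_assoc (w') _ t, mul_assoc (t * w') t t, htt, mul_one]
          _ = ((t * w' * t) * w') * t := by rw [hc]
          _ = t * (w' * (t * w' * t)) := by group
  have hzA : z ∈ centralizer (A : Set G) :=
    mem_centralizer_iff.2 fun x hx => (hzc x (subset_normalClosure hx)).symm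
  have hze : z = t := eq_of_cyclic_sylow hcyc hzA htA hzz htt hz1 ht1 hzt
  exact hrt (by rw [← hze]; exact (hzc r (hRX hr)).symm)

end CfsgLib.StdClosure
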